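import Groth.Agent.Ega2.GeoRelDim
import Groth.Agent.Dix.HenselPoints
import Groth.Agent.S2324

/-!
# Complements on proper smooth schemes over a local ring

* `exists_section`: points of the closed fibre with values in the residue field lift to sections
  (the base is henselian local, the scheme smooth);
* `smoothOfRelativeDimension_of_closedFibre`: the relative dimension can be read off from the closed fibre;
* `exists_affine_of_points`, `range_le_of_closedPoint_mem`: with an ample module, finitely many sections lie in a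
  common affine open.
-/

set_option autoImplicit false
universe u

namespace Groth.Agent.Pi1.H409.Plus

open AlgebraicGeometry CategoryTheory CategoryTheory.Limits IsLocalRing

/-- Residue-valued points of a smooth scheme over a henselian local ring lift to sections. -/
theorem exists_section {A : Type u} [CommRing A] [HenselianLocalRing A] {X : Scheme.{u}}
    (f : X ⟶ Spec (CommRingCat.of A)) [Smooth f]
    (t : Spec (CommRingCat.of (ResidueField A)) ⟶ X)
    (ht : t ≫ f = Spec.map (CommRingCat.ofHom (residue A))) :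
    ∃ s : Spec (CommRingCat.of A) ⟶ X, s ≫ f = 𝟙 _ ∧
      Spec.map (CommRingCat.ofHom (residue A)) ≫ s = t := by
  let z : Spec (CommRingCat.of (ResidueField A)) := closedPoint (ResidueField A)
  obtain ⟨U, hU, hz, -⟩ := exists_isAffineOpen_mem_and_subset (U := (⊤ : X.Opens)) (x := t z) trivial
  have hr : Set.range t ⊆ (U : Set X) := by
    rintro _ ⟨w, rfl⟩
    have : w = z := Subsingleton.elim (α := PrimeSpectrum (ResidueField A)) _ _
    rw [this]
    exact hz
  let j : Spec Γ(X, U) ⟶ X := hU.fromSpec
  have hj : Set.range j = (U : Set X) := hU.range_fromSpec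
  let t' : Spec (CommRingCat.of (ResidueField A)) ⟶ Spec Γ(X, U) :=
    IsOpenImmersion.lift j t (by rw [hj]; exact hr)
  have ht' : t' ≫ j = t := IsOpenImmersion.lift_fac _ _ _
  have : Smooth (j ≫ f) := inferInstance
  obtain ⟨a, ha, hat⟩ := Groth.Agent.Dix.HenselPoints.exists_lift_point Γ(X, U) (j ≫ f) t'
    (by rw [← Category.assoc, ht', ht])
  refine ⟨a ≫ j, by rw [Category.assoc, ha], ?_⟩
  rw [← Category.assoc, hat, ht']

/-- A section of a scheme over a local ring whose closed point maps into an open lands in that open. -/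
theorem range_le_of_closedPoint_mem {A : Type u} [CommRing A] [IsLocalRing A] {X : Scheme.{u}}
    (s : Spec (CommRingCat.of A) ⟶ X) (U : X.Opens) (h : s (closedPoint A) ∈ U) :
    Set.range s ⊆ (U : Set X) := by
  rintro _ ⟨w, rfl⟩
  have h2 : w ⤳ (closedPoint A : Spec (CommRingCat.of A)) :=
    IsLocalRing.specializes_closedPoint (R := A) w
  have h3 : s w ⤳ s (closedPoint A) := h2.map s.continuous
  exact h3.mem_open U.2 h

/-- Every point of a proper scheme over a local ring specializes to a point of the closed fibre. -/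
theorem exists_specializes {A : Type u} [CommRing A] [IsLocalRing A] {Y : Scheme.{u}}
    (b : Y ⟶ Spec (CommRingCat.of A)) (hb : IsClosedMap b) (y : Y) :
    ∃ z : Y, y ⤳ z ∧ b z = closedPoint A := by
  have hcl : IsClosed (b '' (closure {y})) := hb _ isClosed_closure
  have h1 : b y ∈ b '' (closure {y}) := ⟨y, subset_closure rfl, rfl⟩
  have h2 : b y ⤳ (closedPoint A : Spec (CommRingCat.of A)) :=
    IsLocalRing.specializes_closedPoint (R := A) (b y)
  obtain ⟨z, hz, hz'⟩ := h2.mem_closed hcl h1
  exact ⟨z, specializes_iff_mem_closure.2 hz, hz'⟩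

/-- The relative dimension of a proper smooth scheme over a local ring is that of its closed fibre. -/
theorem smoothOfRelativeDimension_of_closedFibre {A : Type u} [CommRing A] [IsLocalRing A] {Y : Scheme.{u}}
    (b : Y ⟶ Spec (CommRingCat.of A)) (hb : IsClosedMap b) [Smooth b] (n : ℕ)
    {X₀ T : Scheme.{u}} {g : X₀ ⟶ Y} {f₀ : X₀ ⟶ T} {σ : T ⟶ Spec (CommRingCat.of A)}
    (H : IsPullback g f₀ b σ) (hf₀ : SmoothOfRelativeDimension n f₀)
    (hσ : closedPoint A ∈ Set.range σ) : SmoothOfRelativeDimension n b := by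
  refine ⟨fun x ↦ ?_⟩
  obtain ⟨z, hxz, hz⟩ := exists_specializes b hb x
  obtain ⟨U, hU, V, hV, hx, e, h⟩ := Smooth.exists_isStandardSmooth b z
  obtain ⟨m, hm⟩ := Picfga.CurveRelDim.exists_relativeDimension h
  have hV' := Ega2.GeoRelDim.smoothOfRelativeDimension_ι_comp b m U hU V hV e hm
  obtain ⟨t, ht⟩ := hσ
  -- a point of the base change
  have h5 : IsPullback (pullback.fst (V.ι ≫ b) σ) (pullback.snd (V.ι ≫ b) σ) (V.ι ≫ b) σ :=
    IsPullback.of_hasPullback _ _
  obtain ⟨w, hw1, hw2⟩ := Scheme.Pullback.exists_preimage_pullback (f := V.ι ≫ b) (g := σ)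
    (⟨z, hx⟩ : V) t (by rw [ht]; exact hz)
  have h6 : SmoothOfRelativeDimension m (pullback.snd (V.ι ≫ b) σ) :=
    Ega2.GeoRelDim.relDim_of_isPullback h5 hV'
  have h7 : SmoothOfRelativeDimension n (pullback.snd (V.ι ≫ b) σ) := by
    let l : pullback (V.ι ≫ b) σ ⟶ X₀ := H.lift (pullback.fst (V.ι ≫ b) σ ≫ V.ι) (pullback.snd _ _) (by
      rw [Category.assoc, pullback.condition])
    have hl : l ≫ f₀ = pullback.snd (V.ι ≫ b) σ := H.lift_snd _ _ _
    have hl' : l ≫ g = pullback.fst (V.ι ≫ b) σ ≫ V.ι := H.lift_fst _ _ _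
    have h8 : IsPullback (pullback.fst (V.ι ≫ b) σ) l V.ι g := by
      refine IsPullback.of_bot (v₂₁ := f₀) (v₂₂ := b) (h₃₁ := σ) ?_ hl'.symm H.flip.flip
      rw [hl]
      exact h5
    have h9 : IsOpenImmersion l := MorphismProperty.of_isPullback h8 inferInstance
    rw [← hl]
    have := smoothOfRelativeDimension_comp (n := 0) (m := n) l f₀
    simpa using this
  obtain rfl := Ega2.GeoRelDim.relDim_unique _ n m h7 h6 w
  exact ⟨U, hU, V, hV, hxz.mem_open V.2 hx, e, hm⟩

/-- Finitely many points of a quasi-compact scheme with an ample module lie in an affine open. -/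
theorem exists_affine_of_points {X : Scheme.{u}} [CompactSpace X] [X.IsSeparated] (L : X.Modules) (hL : CohB1.IsAmple L)
    {ι : Type*} [Finite ι] (x : ι → X) : ∃ U : X.Opens, IsAffineOpen U ∧ ∀ i, x i ∈ U := by
  obtain ⟨n, s, hs, -, hV⟩ := Groth.Agent.S2324.result X L hL (Set.range x) (Set.finite_range x) ⊤
    (Set.subset_univ _)
  exact ⟨_, hV, fun i => hs ⟨i, rfl⟩⟩

end Groth.Agent.Pi1.H409.Plus
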